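import Cfsg.Agent.Lib.CharsMore.Gallagher
import Cfsg.Agent.Lib.CharApps.Inflation
import Cfsg.Agent.Lib.Chars.Linear

/-!
# Bounded character degrees under restriction

`DegLE G n`: every irreducible character of `G` has degree at most `n`.
-/

set_option autoImplicit false
set_option linter.style.haveILetI false
set_option linter.unusedSectionVars false

namespace CfsgLib.CharsMore.IsaacsPassman

open Cfsg
open scoped ComplexConjugate commutatorElement

universe u

variable {G : Type u} [Group G] [Finite G]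

/-- All irreducible degrees are at most `n`. -/
def DegLE (G : Type u) [Group G] (n : ℕ) : Prop :=
  ∀ χ : IrrCharacter G, charDegree (χ : G → ℂ) ≤ n

theorem DegLE.mono {m n : ℕ} (h : DegLE G m) (hmn : m ≤ n) : DegLE G n := fun χ =>
  (h χ).trans hmn

theorem DegLE.of_surjective {H : Type u} [Group H] [Finite H] {n : ℕ} (f : G →* H)
    (hf : Function.Surjective f) (h : DegLE G n) : DegLE H n := by
  intro χ
  have := h ⟨_, Chars.isIrrCharacter_comp f hf χ.2⟩
  simpa [charDegree] using this

theorem DegLE.subgroupOf {n : ℕ} {H K : Subgroup G} (hHK : H ≤ K)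
    (h : DegLE ↥(H.subgroupOf K) n) : DegLE ↥H n :=
  h.of_surjective (Subgroup.subgroupOfEquivOfLe hHK).toMonoidHom
    (Subgroup.subgroupOfEquivOfLe hHK).surjective

/-- A character with a constituent of its own degree is that constituent. -/
theorem eq_of_degree_eq [Fintype G] {φ : G → ℂ} (hφ : IsCharacter G φ) {θ : G → ℂ}
    (hθ : IsIrrCharacter G θ) (h : classInner φ θ ≠ 0) (hd : φ 1 = θ 1) : φ = θ := by
  classical
  obtain ⟨k, ρ, rfl⟩ := hφ
  obtain ⟨m, c, hc⟩ := Chars.exists_sum_irr ρ
  have hex : ∃ i, (c i : G → ℂ) = θ := by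
    by_contra hno
    push Not at hno
    refine h ?_
    rw [hc, Chars.inner_sum_left]
    exact Finset.sum_eq_zero fun i _ => by
      rw [Chars.inner_irr_of_isIrr (c i).2 hθ, if_neg (hno i)]
  obtain ⟨i₀, hi₀⟩ := hex
  have h1 : ∑ i, ((charDegree (c i : G → ℂ) : ℕ) : ℂ)
      = ((charDegree (c i₀ : G → ℂ) : ℕ) : ℂ) := by
    simp only [← CharApps.deg_eq]
    rw [hi₀, ← hd, hc, Finset.sum_apply]
  have h2 : ∑ i, charDegree (c i : G → ℂ) = charDegree (c i₀ : G → ℂ) := by exact_mod_cast h1
  have h3 : ∀ i, i = i₀ := by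
    intro i
    by_contra hne
    have h4 := Finset.add_le_sum (f := fun j => charDegree (c j : G → ℂ))
      (fun j _ => Nat.zero_le _) (Finset.mem_univ i) (Finset.mem_univ i₀) hne
    have := CharApps.deg_pos (c i)
    beta_reduce at h4
    omega
  rw [hc, Finset.sum_eq_single i₀ (fun i _ hi => absurd (h3 i) hi)
    (fun hi => absurd (Finset.mem_univ i₀) hi), hi₀]

/-- Degrees of a subgroup are bounded by those of the group, and equality forces the character
above to restrict irreducibly. -/
theorem exists_above [Fintype G] (H : Subgroup G) (φ : IrrCharacter H) :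
    ∃ χ : IrrCharacter G, charDegree (φ : H → ℂ) ≤ charDegree (χ : G → ℂ) ∧
      (charDegree (φ : H → ℂ) = charDegree (χ : G → ℂ) →
        IsIrrCharacter H (fun x : H => (χ : G → ℂ) x)) := by
  classical
  haveI := Fintype.ofFinite H
  obtain ⟨χ, hχ⟩ := exists_over H φ.2
  have hc := Chars.isCharacter_restrict H (Chars.isCharacter_of_irr χ.2)
  refine ⟨χ, ?_, fun he => ?_⟩
  · have h := Chars.re_le_of_inner_ne_zero φ.2 hc hχ
    simp only [CharApps.deg_eq, OneMemClass.coe_one, Complex.natCast_re, Nat.cast_le] at h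
    exact h
  · rw [eq_of_degree_eq hc φ.2 hχ (by simp [CharApps.deg_eq, he])]
    exact φ.2

theorem DegLE.subgroup {n : ℕ} (h : DegLE G n) (H : Subgroup G) : DegLE H n := by
  intro φ
  haveI := Fintype.ofFinite G
  obtain ⟨χ, hχ, -⟩ := exists_above H φ
  exact hχ.trans (h χ)

/-- If no character of top degree restricts irreducibly, the degrees drop. -/
theorem degLE_pred {n : ℕ} (h : DegLE G n) (H : Subgroup G)
    (hred : ∀ χ : IrrCharacter G, charDegree (χ : G → ℂ) = n →
      ¬ IsIrrCharacter H (fun x : H => (χ : G → ℂ) x)) : DegLE H (n - 1) := by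
  intro φ
  haveI := Fintype.ofFinite G
  obtain ⟨χ, hle, heq⟩ := exists_above H φ
  by_contra hlt
  have hn := h χ
  exact hred χ (by omega) (heq (by omega))

/-- All degrees one means abelian. -/
theorem mul_comm_of_degLE_one (h : DegLE G 1) (a b : G) : a * b = b * a := by
  rw [← commutatorElement_eq_one_iff_mul_comm]
  refine CharApps.eq_one_of_forall_ker fun χ => ?_
  have h1 : (χ : G → ℂ) 1 = 1 := by
    have := CharApps.deg_pos χ
    have := h χ
    rw [CharApps.deg_eq, show charDegree (χ : G → ℂ) = 1 by omega, Nat.cast_one]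
  obtain ⟨lam, hlam⟩ := Chars.exists_hom_of_degree_one (Chars.isCharacter_of_irr χ.2) h1
  rw [hlam]
  simp [commutatorElement_def]

/-- A nonabelian quotient has a nonlinear character. -/
theorem exists_nonlinear (K : Subgroup G) [K.Normal] (h : ¬ commutator G ≤ K) :
    ∃ η : IrrCharacter G, K ≤ CharApps.charKer η ∧ 2 ≤ charDegree (η : G → ℂ) := by
  by_contra hno
  push Not at hno
  refine h ?_
  have h1 : DegLE (G ⧸ K) 1 := by
    intro χ
    have := hno (CharApps.inflate K χ) (CharApps.le_charKer_inflate K χ)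
    rw [CharApps.inflate_charDegree] at this
    omega
  rw [commutator_def, Subgroup.commutator_le]
  intro a _ b _
  rw [← QuotientGroup.eq_one_iff]
  have := mul_comm_of_degLE_one h1 (a : G ⧸ K) (b : G ⧸ K)
  have h2 : ((⁅a, b⁆ : G) : G ⧸ K) = ⁅(a : G ⧸ K), (b : G ⧸ K)⁆ :=
    map_commutatorElement (QuotientGroup.mk' K) a b
  rw [h2, commutatorElement_eq_one_iff_mul_comm.2 this]

/-- Gallagher's bound: a nonabelian quotient halves the degrees. -/
theorem degLE_half {n : ℕ} (h : DegLE G n) (K : Subgroup G) [K.Normal]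
    (hK : ¬ commutator G ≤ K) : DegLE K (n / 2) := by
  classical
  haveI := Fintype.ofFinite G
  haveI := Fintype.ofFinite K
  letI := Chars.irrFintype G
  obtain ⟨η, hηK, hη2⟩ := exists_nonlinear K hK
  intro θ
  obtain ⟨χ, hχ⟩ := exists_over K θ.2
  obtain ⟨k, hk0, hk, -⟩ := degree_quotient K χ.2 θ.2 hχ
  rw [CharApps.deg_eq, CharApps.deg_eq] at hk
  have hk' : charDegree (χ : G → ℂ) = k * charDegree (θ : K → ℂ) := by exact_mod_cast hk
  rcases Nat.eq_or_lt_of_le (show 1 ≤ k from hk0) with hk1 | hk1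
  · subst hk1
    rw [one_mul] at hk'
    have hres : IsIrrCharacter K (fun n : K => (χ : G → ℂ) n) := by
      rw [eq_of_degree_eq (Chars.isCharacter_restrict K (Chars.isCharacter_of_irr χ.2)) θ.2 hχ
        (by simp [CharApps.deg_eq, hk'])]
      exact θ.2
    have hirr := gallagher_irr K χ.2 hres ((mem_quotIrr K).2 hηK)
    have h1 := h ⟨_, hirr⟩
    have h2 : charDegree (((η : G → ℂ) * (χ : G → ℂ)) : G → ℂ)
        = charDegree (η : G → ℂ) * charDegree (χ : G → ℂ) := by
      rw [charDegree, Pi.mul_apply, CharApps.deg_eq, CharApps.deg_eq, ← Nat.cast_mul,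
        Complex.natCast_re, Nat.floor_natCast]
    simp only [h2] at h1
    have h3 : 2 * charDegree (χ : G → ℂ) ≤ n := (Nat.mul_le_mul_right _ hη2).trans h1
    omega
  · have h1 := h χ
    have h3 : 2 * charDegree (θ : K → ℂ) ≤ n :=
      (Nat.mul_le_mul_right _ hk1).trans (hk' ▸ h1)
    omega

end CfsgLib.CharsMore.IsaacsPassman
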