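import Cfsg.Agent.Lib.CharsMore.IsaacsPassman.Solvable
import Cfsg.Agent.Lib.Chars.Quotient

/-!
# The reduction step when the derived group is perfect, and the theorem of Isaacs and Passman
-/

set_option autoImplicit false
set_option linter.style.haveILetI false
set_option linter.unusedSectionVars false

namespace CfsgLib.CharsMore.IsaacsPassman

open Cfsg
open scoped ComplexConjugate commutatorElement

universe u

/-- No nonabelian simple group has all degrees at most four. -/
theorem not_degLE_four (S : Type u) [Group S] [Finite S] [IsSimpleGroup S]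
    (hna : ¬ ∀ a b : S, a * b = b * a) : ¬ DegLE S 4 := by
  classical
  intro h
  haveI := Fintype.ofFinite S
  letI := Chars.irrFintype S
  have hperf : commutator S = ⊤ := by
    rcases IsSimpleGroup.eq_bot_or_eq_top_of_normal (commutator S) inferInstance with hb | ht
    · refine absurd (fun a b => commutatorElement_eq_one_iff_mul_comm.1 ?_) hna
      exact Subgroup.mem_bot.1 (hb ▸ Subgroup.commutator_mem_commutator (Subgroup.mem_top a)
        (Subgroup.mem_top b))
    · exact ht
  have hcen : Subgroup.center S = ⊥ := by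
    rcases IsSimpleGroup.eq_bot_or_eq_top_of_normal (Subgroup.center S) inferInstance with hb | ht
    · exact hb
    · exact absurd (fun a b => (Subgroup.mem_center_iff.1 (ht ▸ Subgroup.mem_top b) a)) hna
  have hhom : ∀ (l : S →* ℂˣ) (x : S), l x = 1 := fun l x =>
    Abelianization.commutator_subset_ker l (hperf ▸ Subgroup.mem_top x)
  have hdeg : ∀ χ : IrrCharacter S, χ ≠ Chars.principal S → 2 ≤ charDegree (χ : S → ℂ) := by
    intro χ hχ
    by_contra hlt
    have h1 : charDegree (χ : S → ℂ) = 1 := by have := CharApps.deg_pos χ; omega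
    obtain ⟨l, hl⟩ := Chars.exists_hom_of_degree_one (Chars.isCharacter_of_irr χ.2)
      (by rw [CharApps.deg_eq, h1, Nat.cast_one])
    refine hχ (Subtype.ext (funext fun x => ?_))
    rw [hl, Chars.principal_apply]
    simp [hhom]
  have hdvd : ∀ χ : IrrCharacter S, charDegree (χ : S → ℂ) ∣ Nat.card S := by
    rintro ⟨χ, d, ρ, hρ, rfl⟩
    haveI := hρ
    have := Chars.finrank_dvd_index_center ρ
    rw [hcen, Subgroup.index_bot, Module.finrank_fin_fun] at this
    simpa [charDegree] using this
  have hsq := CharApps.sum_degree_sq_nat (G := S)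
  rw [← Finset.add_sum_erase _ _ (Finset.mem_univ (Chars.principal S))] at hsq
  have hprin : charDegree (Chars.principal S : S → ℂ) = 1 := by
    simp [charDegree, Chars.principal_apply]
  rw [hprin, one_pow] at hsq
  by_cases heven : 2 ∣ Nat.card S
  · haveI : Fact (Nat.Prime 2) := ⟨Nat.prime_two⟩
    obtain ⟨t, ht⟩ := exists_prime_orderOf_dvd_card' 2 heven
    have ht1 : t ≠ 1 := fun h1 => by simp [h1] at ht
    have hval : ∀ χ : IrrCharacter S, χ ≠ Chars.principal S →
        ∃ z : ℤ, (χ : S → ℂ) 1 * (χ : S → ℂ) t = (z : ℂ) ∧ 3 ∣ z := by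
      rintro ⟨χ, d, ρ, hρ, rfl⟩ hne
      haveI := hρ
      have hd2 := hdeg _ hne
      have hd4 := h ⟨_, d, ρ, hρ, rfl⟩
      simp only [charDegree, Representation.char_one, Module.finrank_fin_fun, Complex.natCast_re,
        Nat.floor_natCast] at hd2 hd4
      obtain ⟨b, μ, hμ, -, hb, -, htr, -⟩ := Chars.exists_eigenbasis_rep ρ t
      have hdet : ∏ i, μ i = 1 := by
        have h1 := hhom ((LinearMap.det.comp ρ).toHomUnits) t
        have h2 : LinearMap.det (ρ t) = 1 := by simpa using congrArg Units.val h1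
        rw [← LinearMap.det_toMatrix b, show LinearMap.toMatrix b b (ρ t) = Matrix.diagonal μ from ?_,
          Matrix.det_diagonal] at h2
        · exact h2
        · ext i j
          rw [LinearMap.toMatrix_apply, hb]
          by_cases hij : i = j
          · subst hij; simp
          · simp [Matrix.diagonal_apply_ne _ hij, Ne.symm hij]
      have hns : ∀ c : ℂ, ∃ i, μ i ≠ c := by
        intro c
        by_contra hall
        push Not at hall
        have hρt : ρ t = c • LinearMap.id := b.ext fun i => by rw [hb, hall i]; rfl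
        have hker : ρ.ker = ⊥ := by
          rcases IsSimpleGroup.eq_bot_or_eq_top_of_normal ρ.ker inferInstance with hk | hk
          · exact hk
          · exfalso
            have hone : ∀ x, ρ x = 1 := fun x => MonoidHom.mem_ker.1 (by rw [hk]; trivial)
            have := Chars.inner_self_irr ρ
            rw [Chars.inner_def] at this
            simp only [Representation.character, hone, LinearMap.trace_one, Module.finrank_fin_fun,
              map_natCast, Finset.sum_const, Finset.card_univ, nsmul_eq_mul,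
              ← Nat.card_eq_fintype_card] at this
            rw [inv_mul_cancel_left₀ (Chars.card_ne_zero S)] at this
            have h2 : d * d = 1 := by exact_mod_cast this
            nlinarith
        have ht' : t ∈ Subgroup.center S := Subgroup.mem_center_iff.2 fun x => by
          refine MonoidHom.ker_eq_bot_iff ρ |>.1 hker ?_
          rw [map_mul, map_mul, hρt]
          ext; simp
        rw [hcen, Subgroup.mem_bot] at ht'
        exact ht1 ht'
      have hpm : ∀ i, μ i = 1 ∨ μ i = -1 := fun i => by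
        have := hμ i
        rw [ht] at this
        exact mul_self_eq_one_iff.1 (by rw [← pow_two]; exact this)
      show ∃ z : ℤ, ρ.character 1 * ρ.character t = (z : ℂ) ∧ 3 ∣ z
      rw [Representation.char_one, htr]
      have hA : ¬ ∀ k, μ k = 1 := fun hk => (hns 1).elim fun i hi => hi (hk i)
      have hB : ¬ ∀ k, μ k = -1 := fun hk => (hns (-1)).elim fun i hi => hi (hk i)
      clear hb hμ htr hne hns
      revert μ
      rw [Module.finrank_fin_fun]
      intro μ hdet hpm hA hB
      interval_cases d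
      · exfalso
        rw [Fin.forall_fin_two] at hA hB
        rw [Fin.prod_univ_two] at hdet
        rcases hpm 0 with a | a <;> rcases hpm 1 with b' | b' <;> simp [a, b'] at hdet hA hB <;>
          norm_num at hdet
      · refine ⟨-3, ?_, dvd_neg.2 dvd_rfl⟩
        simp only [Fin.forall_fin_succ, IsEmpty.forall_iff, and_true, Fin.succ_zero_eq_one,
          Fin.succ_one_eq_two] at hA hB
        rw [Fin.prod_univ_three] at hdet
        rw [Fin.sum_univ_three]
        rcases hpm 0 with a | a <;> rcases hpm 1 with b' | b' <;> rcases hpm 2 with c' | c' <;>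
          simp [a, b', c'] at hdet hA hB ⊢ <;> first | (norm_num at hdet; done) | norm_num
      · refine ⟨0, ?_, dvd_zero _⟩
        simp only [Fin.forall_fin_succ, IsEmpty.forall_iff, and_true, Fin.succ_zero_eq_one,
          Fin.succ_one_eq_two] at hA hB
        rw [Fin.prod_univ_four] at hdet
        rw [Fin.sum_univ_four]
        have e3 : (Fin.succ (2 : Fin 3) : Fin 4) = 3 := rfl
        simp only [e3] at hA hB
        rcases hpm 0 with a | a <;> rcases hpm 1 with b' | b' <;> rcases hpm 2 with c' | c' <;>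
          rcases hpm 3 with e | e <;> simp [a, b', c', e] at hdet hA hB ⊢ <;>
          first | (norm_num at hdet; done) | norm_num
    choose! z hz hz3 using hval
    have h0 := Chars.sum_degree_mul (G := S) t
    rw [if_neg ht1, ← Finset.add_sum_erase _ _ (Finset.mem_univ (Chars.principal S)),
      Finset.sum_congr rfl fun χ hχ => hz χ (Finset.ne_of_mem_erase hχ), Chars.principal_apply,
      Chars.principal_apply, one_mul] at h0
    have h0' : (1 : ℤ) + ∑ χ ∈ Finset.univ.erase (Chars.principal S), z χ = 0 := by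
      exact_mod_cast h0
    have h3 : (3 : ℤ) ∣ ∑ χ ∈ Finset.univ.erase (Chars.principal S), z χ :=
      Finset.dvd_sum fun χ hχ => hz3 χ (Finset.ne_of_mem_erase hχ)
    omega
  · have h9 : ∀ χ ∈ Finset.univ.erase (Chars.principal S), charDegree (χ : S → ℂ) = 3 := by
      intro χ hχ
      have h2 := hdeg χ (Finset.ne_of_mem_erase hχ)
      have h4 := h χ
      have hd := hdvd χ
      by_contra h3
      refine heven (Nat.dvd_trans ?_ hd)
      rcases (show charDegree (χ : S → ℂ) = 2 ∨ charDegree (χ : S → ℂ) = 4 by omega) with e | e <;>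
        rw [e] <;> norm_num
    rw [Finset.sum_congr rfl fun χ hχ => by rw [h9 χ hχ], Finset.sum_const, smul_eq_mul] at hsq
    rcases (Finset.univ.erase (Chars.principal S)).eq_empty_or_nonempty with he | ⟨χ, hχ⟩
    · rw [he, Finset.card_empty] at hsq
      have := Finite.one_lt_card (α := S)
      omega
    · have h3 := hdvd χ
      rw [h9 χ hχ] at h3
      omega

variable {G : Type u} [Group G] [Finite G]

/-- The elements centralizing `commutator G` modulo `J`. -/
def centMod (J : {J : Subgroup G // J.Normal}) : Subgroup G :=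
  haveI := J.2
  (Subgroup.centralizer (((commutator G).map (QuotientGroup.mk' J.1) : Subgroup (G ⧸ J.1)) :
    Set (G ⧸ J.1))).comap (QuotientGroup.mk' J.1)

theorem mem_centMod {J : {J : Subgroup G // J.Normal}} {g : G} :
    g ∈ centMod J ↔ ∀ l ∈ commutator G, ⁅l, g⁆ ∈ J.1 := by
  haveI := J.2
  rw [centMod, Subgroup.mem_comap, Subgroup.mem_centralizer_iff]
  constructor
  · intro h l hl
    have h1 := h _ (Subgroup.mem_map_of_mem _ hl)
    rw [← QuotientGroup.eq_one_iff,
      show ((⁅l, g⁆ : G) : G ⧸ J.1) = ⁅(l : G ⧸ J.1), (g : G ⧸ J.1)⁆ from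
        map_commutatorElement (QuotientGroup.mk' J.1) l g]
    exact commutatorElement_eq_one_iff_mul_comm.2 h1
  · rintro h _ ⟨l, hl, rfl⟩
    refine commutatorElement_eq_one_iff_mul_comm.1 ?_
    rw [← map_commutatorElement, QuotientGroup.mk'_apply, QuotientGroup.eq_one_iff]
    exact h l hl

theorem centMod_normal (J : {J : Subgroup G // J.Normal}) : (centMod J).Normal := by
  haveI := J.2
  haveI : ((commutator G).map (QuotientGroup.mk' J.1)).Normal :=
    Subgroup.Normal.map inferInstance _ (QuotientGroup.mk'_surjective J.1)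
  exact Subgroup.Normal.comap inferInstance _

theorem le_centMod (J : {J : Subgroup G // J.Normal}) : J.1 ≤ centMod J := fun g hg =>
  mem_centMod.2 fun l _ => by
    rw [commutatorElement_def]
    exact J.1.mul_mem (J.2.conj_mem g hg l) (J.1.inv_mem hg)

/-- The elements of small class outside the given normal subgroups. -/
theorem exists_small_class [Fintype G] {n : ℕ} (h : DegLE G n) (U : Finset G)
    (hU : n ^ 4 * U.card < Nat.card G) :
    ∃ x, x ∉ U ∧ (Subgroup.centralizer ({x} : Set G)).index ≤ n ^ 2 := by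
  classical
  letI := Chars.irrFintype G
  by_contra hno
  push Not at hno
  haveI := Fintype.ofFinite (ConjClasses G)
  obtain ⟨r, hr⟩ : ∃ r : ConjClasses G → G, ∀ c, ConjClasses.mk (r c) = c :=
    ⟨Function.surjInv ConjClasses.mk_surjective, Function.surjInv_eq ConjClasses.mk_surjective⟩
  have hk : Nat.card G ≤ n ^ 2 * Fintype.card (ConjClasses G) := by
    rw [← CharApps.sum_degree_sq_nat (G := G), ← Nat.card_eq_fintype_card,
      ← Chars.card_irr_eq_card_classes, Nat.card_eq_fintype_card, mul_comm]
    refine le_trans (Finset.sum_le_sum fun χ _ => Nat.pow_le_pow_left (h χ) 2) ?_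
    simp
  have hbig : ∀ c : ConjClasses G, (n ^ 2 + 1) * 1 ≤
      c.carrier.ncard + n ^ 2 * (if (r c) ∈ U then 1 else 0) := by
    intro c
    have hcard : c.carrier.ncard = (Subgroup.centralizer ({(r c)} : Set G)).index := by
      rw [Chars.index_centralizer_eq, ← Nat.card_coe_set_eq]
      refine Nat.card_congr (Equiv.subtypeEquivRight fun x => ?_)
      rw [ConjClasses.mem_carrier_iff_mk_eq]
      conv_lhs => rw [← hr c]
      exact ⟨fun e => (ConjClasses.mk_eq_mk_iff_isConj.1 e).symm,
        fun e => ConjClasses.mk_eq_mk_iff_isConj.2 e.symm⟩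
    have hpos : 0 < (Subgroup.centralizer ({(r c)} : Set G)).index :=
      Nat.pos_of_ne_zero Subgroup.index_ne_zero_of_finite
    rw [hcard, mul_one]
    split_ifs with hc
    · omega
    · have := hno _ hc
      omega
  have h1 := Finset.sum_le_sum (s := (Finset.univ : Finset (ConjClasses G))) fun c _ => hbig c
  rw [← Finset.mul_sum, Finset.sum_add_distrib, ← Finset.mul_sum, Finset.sum_const,
    Finset.card_univ, smul_eq_mul, mul_one, ← Finset.card_filter] at h1
  have h2 : (Finset.univ.filter fun c : ConjClasses G => (r c) ∈ U).card ≤ U.card :=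
    Finset.card_le_card_of_injOn (fun c => r c) (fun c hc => (Finset.mem_filter.1 hc).2)
      fun c _ c' _ e => by rw [← hr c, ← hr c', show (r c) = (r c') from e]
  have h3 := Group.sum_card_conj_classes_eq_card G
  rw [finsum_eq_sum_of_fintype] at h3
  rw [h3] at h1
  have h4 : (n ^ 2 + 1) * Nat.card G ≤ n ^ 2 * Nat.card G + n ^ 4 * U.card := by
    calc (n ^ 2 + 1) * Nat.card G
        ≤ (n ^ 2 + 1) * (n ^ 2 * Fintype.card (ConjClasses G)) := Nat.mul_le_mul_left _ hk
      _ = n ^ 2 * ((n ^ 2 + 1) * Fintype.card (ConjClasses G)) := by ring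
      _ ≤ n ^ 2 * (Nat.card G + n ^ 2 * U.card) :=
        Nat.mul_le_mul_left _ (h1.trans (Nat.add_le_add_left (Nat.mul_le_mul_left _ h2) _))
      _ = _ := by ring
  rw [add_one_mul] at h4
  omega

theorem pow_five_mul_factorial_half {n : ℕ} (hn : 5 ≤ n) :
    n ^ 5 * (Nat.factorial (n / 2)) ^ 2 ≤ (Nat.factorial n) ^ 2 := by
  obtain ⟨m, rfl⟩ : ∃ m, n = m + 3 := ⟨n - 3, by omega⟩
  have h1 : Nat.factorial ((m + 3) / 2) ≤ Nat.factorial m := Nat.factorial_le (by omega)
  rw [Nat.factorial_succ, Nat.factorial_succ, Nat.factorial_succ]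
  obtain ⟨k, rfl⟩ : ∃ k, m = k + 2 := ⟨m - 2, by omega⟩
  have h2 : (k + 2 + 3) ^ 5 ≤ ((k + 2 + 3) * (k + 2 + 2) * (k + 2 + 1)) ^ 2 := by
    have h3 : (k + 2 + 3) ^ 3 ≤ (k + 2 + 2) ^ 2 * (k + 2 + 1) ^ 2 := by
      nlinarith [Nat.zero_le (k ^ 3), Nat.zero_le (k ^ 4), Nat.zero_le (k ^ 2)]
    calc (k + 2 + 3) ^ 5 = (k + 2 + 3) ^ 2 * (k + 2 + 3) ^ 3 := by ring
      _ ≤ (k + 2 + 3) ^ 2 * ((k + 2 + 2) ^ 2 * (k + 2 + 1) ^ 2) := Nat.mul_le_mul_left _ h3
      _ = _ := by ring
  calc (k + 2 + 3) ^ 5 * (Nat.factorial ((k + 2 + 3) / 2)) ^ 2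
      ≤ ((k + 2 + 3) * (k + 2 + 2) * (k + 2 + 1)) ^ 2 * (Nat.factorial (k + 2)) ^ 2 :=
        Nat.mul_le_mul h2 (Nat.pow_le_pow_left h1 2)
    _ = _ := by ring

/-- The step for a group with perfect nontrivial derived group. -/
theorem step_of_perfect {n : ℕ} (h : DegLE G n)
    (hL : commutator G ≤ ⁅commutator G, commutator G⁆) (hL1 : commutator G ≠ ⊥) : Step G n := by
  classical
  haveI := Fintype.ofFinite G
  set L := commutator G with hLdef
  -- degrees are at least five
  have hn5 : 5 ≤ n := by
    by_contra hlt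
    have hLtop : commutator L = ⊤ := by
      refine Subgroup.map_injective L.subtype_injective ?_
      rw [Subgroup.map_subtype_commutator, ← MonoidHom.range_eq_map, Subgroup.range_subtype]
      exact le_antisymm (Subgroup.commutator_le_self L) hL
    haveI : Nontrivial L := (Subgroup.nontrivial_iff_ne_bot L).2 hL1
    obtain ⟨M, ⟨hMn, hMtop⟩, hmax⟩ := Set.Finite.exists_maximal
      (s := {K : Subgroup L | K.Normal ∧ K ≠ ⊤}) (Set.toFinite _)
      ⟨⊥, inferInstance, bot_ne_top⟩
    haveI := hMn
    haveI : Nontrivial (L ⧸ M) := QuotientGroup.nontrivial_iff.2 hMtop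
    haveI : IsSimpleGroup (L ⧸ M) := ⟨fun W hW => by
      have hfs := QuotientGroup.mk'_surjective M
      have hle : M ≤ W.comap (QuotientGroup.mk' M) := QuotientGroup.le_comap_mk' M W
      by_cases htop : W.comap (QuotientGroup.mk' M) = ⊤
      · exact Or.inr (by rw [← Subgroup.map_comap_eq_self_of_surjective hfs W, htop,
          Subgroup.map_top_of_surjective _ hfs])
      · refine Or.inl ?_
        have := le_antisymm (hmax ⟨hW.comap _, htop⟩ hle) hle
        rw [← Subgroup.map_comap_eq_self_of_surjective hfs W, this, QuotientGroup.map_mk'_self]⟩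
    refine not_degLE_four (L ⧸ M) (fun hab => hMtop ?_)
      (((h.subgroup L).mono (by omega)).of_surjective _ (QuotientGroup.mk'_surjective M))
    rw [eq_top_iff, ← hLtop, commutator_def, Subgroup.commutator_le]
    intro a _ b _
    rw [← QuotientGroup.eq_one_iff,
      show ((⁅a, b⁆ : L) : L ⧸ M) = ⁅(a : L ⧸ M), (b : L ⧸ M)⁆ from
        map_commutatorElement (QuotientGroup.mk' M) a b]
    exact commutatorElement_eq_one_iff_mul_comm.2 (hab _ _)
  -- the maximal normal subgroups below `L`
  set P : Subgroup G → Prop := fun J => J.Normal ∧ J < L with hP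
  haveI : Fintype {J : Subgroup G // J.Normal} := Fintype.ofFinite _
  set 𝒥 : Finset {J : Subgroup G // J.Normal} :=
    Finset.univ.filter (fun J => Maximal P J.1) with h𝒥
  have hmem : ∀ {J}, J ∈ 𝒥 → Maximal P J.1 := fun hJ => (Finset.mem_filter.1 hJ).2
  have hbelow : ∀ A : Subgroup G, A.Normal → A < L → ∃ J ∈ 𝒥, A ≤ J.1 := by
    intro A hA hlt
    obtain ⟨J, hAJ, hJ⟩ := (Set.toFinite {B : Subgroup G | P B}).exists_le_maximal (a := A) ⟨hA, hlt⟩
    exact ⟨⟨J, hJ.prop.1⟩, Finset.mem_filter.2 ⟨Finset.mem_univ _, hJ⟩, hAJ⟩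
  -- normal subgroups below `L` and not in `J` cover `L` modulo `J`
  have hpair : ∀ J ∈ 𝒥, ∀ A B : Subgroup G, A.Normal → B.Normal → A ≤ L → B ≤ L →
      ¬ A ≤ J.1 → ¬ B ≤ J.1 → ¬ ⁅A, B⁆ ≤ J.1 := by
    intro J hJ A B hA hB hAL hBL hAJ hBJ hle
    haveI := J.2
    haveI := hA
    haveI := hB
    have hJL : J.1 < L := (hmem hJ).prop.2
    have hsup : ∀ C : Subgroup G, C.Normal → C ≤ L → ¬ C ≤ J.1 → C ⊔ J.1 = L := by
      intro C hC hCL hCJ
      haveI := hC
      rcases (sup_le hCL hJL.le).eq_or_lt with he | hlt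
      · exact he
      · exact absurd (le_sup_left.trans ((hmem hJ).le_of_ge ⟨inferInstance, hlt⟩ le_sup_right)) hCJ
    have himg : ∀ C : Subgroup G, C ⊔ J.1 = L →
        C.map (QuotientGroup.mk' J.1) = L.map (QuotientGroup.mk' J.1) := by
      intro C hC
      rw [← hC, Subgroup.map_sup, QuotientGroup.map_mk'_self, sup_bot_eq]
    have h1 : ⁅A, B⁆.map (QuotientGroup.mk' J.1) = ⊥ := by
      rw [Subgroup.map_eq_bot_iff, QuotientGroup.ker_mk']
      exact hle
    rw [Subgroup.map_commutator, himg A (hsup A hA hAL hAJ), himg B (hsup B hB hBL hBJ),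
      ← Subgroup.map_commutator, Subgroup.map_eq_bot_iff, QuotientGroup.ker_mk'] at h1
    exact hJL.not_ge (hL.trans h1)
  have hLnot : ∀ J ∈ 𝒥, ¬ L ≤ J.1 := fun J hJ => (hmem hJ).prop.2.not_ge
  have hcap : ∀ J ∈ 𝒥, L ⊓ centMod J ≤ J.1 := by
    intro J hJ
    haveI := centMod_normal J
    by_contra hno
    refine hpair J hJ L (L ⊓ centMod J) inferInstance inferInstance le_rfl inf_le_left
      (hLnot J hJ) hno ?_
    exact Subgroup.commutator_le.2 fun l hl k hk => mem_centMod.1 hk.2 l hl
  have hcm : ∀ J ∈ 𝒥, ∀ A : Subgroup G, A.Normal → L ⊓ A ≤ J.1 → A ≤ centMod J := by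
    intro J _ A hA hle a ha
    refine mem_centMod.2 fun l hl => hle ⟨?_, ?_⟩
    · exact Subgroup.commutator_mem_commutator (Subgroup.mem_top l) (Subgroup.mem_top a)
    · rw [commutatorElement_def]
      exact A.mul_mem (hA.conj_mem a ha l) (A.inv_mem ha)
  have hhalf : ∀ J ∈ 𝒥, DegLE (centMod J) (n / 2) := by
    intro J hJ
    haveI := centMod_normal J
    exact degLE_half h (centMod J) fun hle => hLnot J hJ ((le_inf le_rfl hle).trans (hcap J hJ))
  -- the number of these subgroups is at most `n`
  have hmany : ∀ s : Finset {J : Subgroup G // J.Normal}, s ⊆ 𝒥 →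
      ∃ A : Subgroup G, A.Normal ∧ DegLE A (n / 2 ^ s.card) ∧
        ∀ J ∈ 𝒥, J ∉ s → ¬ L ⊓ A ≤ J.1 := by
    intro s
    induction s using Finset.induction_on with
    | empty =>
      intro _
      refine ⟨⊤, inferInstance, ?_, fun J hJ _ hle => hLnot J hJ (by simpa using hle)⟩
      simpa using h.subgroup ⊤
    | @insert J₀ s hJ₀ ih =>
      intro hsub
      obtain ⟨A, hA, hAd, hAn⟩ := ih (fun x hx => hsub (Finset.mem_insert_of_mem hx))
      have hJ₀mem := hsub (Finset.mem_insert_self J₀ s)
      haveI := hA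
      haveI := centMod_normal J₀
      refine ⟨A ⊓ centMod J₀, inferInstance, ?_, fun J hJ hJs => ?_⟩
      · rw [Finset.card_insert_of_notMem hJ₀, pow_succ, ← Nat.div_div_eq_div_mul]
        refine DegLE.subgroupOf (K := A) inf_le_left (degLE_half hAd _ fun hle => ?_)
        refine hpair J₀ hJ₀mem (L ⊓ A) (L ⊓ A) inferInstance inferInstance inf_le_left inf_le_left
          (hAn J₀ hJ₀mem hJ₀) (hAn J₀ hJ₀mem hJ₀) ?_
        refine le_trans (le_inf ((Subgroup.commutator_le_self _).trans inf_le_left) ?_)
          (hcap J₀ hJ₀mem)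
        refine (Subgroup.commutator_mono inf_le_right inf_le_right).trans ?_
        rw [← Subgroup.map_subtype_commutator]
        refine (Subgroup.map_mono hle).trans ?_
        rw [Subgroup.map_subgroupOf_eq_of_le inf_le_left]
        exact inf_le_right
      · rw [Finset.mem_insert, not_or] at hJs
        intro hle
        refine hpair J hJ (L ⊓ A) (L ⊓ centMod J₀) inferInstance inferInstance inf_le_left
          inf_le_left (hAn J hJ hJs.2) (fun hle2 => ?_) ?_
        · have h1 : J₀.1 ≤ J.1 := (le_inf (hmem hJ₀mem).prop.2.le (le_centMod J₀)).trans hle2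
          exact hJs.1 (Subtype.ext ((hmem hJ₀mem).eq_of_ge (hmem hJ).prop h1))
        · refine (Subgroup.commutator_le_inf _ _).trans (le_trans ?_ hle)
          exact le_inf (inf_le_left.trans inf_le_left)
            (le_inf (inf_le_left.trans inf_le_right) (inf_le_right.trans inf_le_right))
  have hm : 𝒥.card ≤ n := by
    obtain ⟨A, -, hAd, -⟩ := hmany 𝒥 subset_rfl
    have h1 : 1 ≤ n / 2 ^ 𝒥.card :=
      (CharApps.deg_pos (Chars.principal A)).trans_le (hAd (Chars.principal A))
    rw [Nat.one_le_div_iff (by positivity)] at h1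
    exact (Nat.lt_two_pow_self).le.trans h1
  -- a small quotient finishes
  by_cases hsmall : ∃ J ∈ 𝒥,
      (centMod J).index * (Nat.factorial (n / 2)) ^ 2 ≤ (Nat.factorial n) ^ 2
  · obtain ⟨J, hJ, hle⟩ := hsmall
    exact step_half (by omega) (centMod J) (hhalf J hJ) hle
  push Not at hsmall
  have hidx : ∀ J ∈ 𝒥, n ^ 5 < (centMod J).index := fun J hJ =>
    Nat.lt_of_mul_lt_mul_right ((pow_five_mul_factorial_half hn5).trans_lt (hsmall J hJ))
  -- an element of small class
  set U : Finset G := 𝒥.biUnion (fun J => Finset.univ.filter (fun g => g ∈ centMod J)) with hU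
  have hUcard : n ^ 4 * U.card < Nat.card G := by
    have h1 : n ^ 5 * U.card ≤ n ^ 5 * ∑ J ∈ 𝒥, Nat.card (centMod J) := by
      refine Nat.mul_le_mul_left _ (Finset.card_biUnion_le.trans (le_of_eq ?_))
      exact Finset.sum_congr rfl fun J _ => by
        rw [Nat.card_eq_fintype_card, Fintype.card_subtype]
    rcases 𝒥.eq_empty_or_nonempty with he | hne
    · simp [hU, he, Fintype.card_pos]
    have h2 : n ^ 5 * ∑ J ∈ 𝒥, Nat.card (centMod J) < ∑ J ∈ 𝒥, Nat.card G := by
      rw [Finset.mul_sum]
      refine Finset.sum_lt_sum_of_nonempty hne fun J hJ => ?_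
      rw [← Subgroup.card_mul_index (centMod J), mul_comm]
      exact Nat.mul_lt_mul_of_pos_left (hidx J hJ) Nat.card_pos
    rw [Finset.sum_const, smul_eq_mul] at h2
    have h3 : n * (n ^ 4 * U.card) < n * Nat.card G := by
      rw [← mul_assoc, ← pow_succ']
      exact (h1.trans_lt h2).trans_le (Nat.mul_le_mul_right _ hm)
    exact Nat.lt_of_mul_lt_mul_left h3
  obtain ⟨x, hxU, hx⟩ := exists_small_class h U hUcard
  refine step_pred (by omega) _ (degLE_pred h _ fun χ hχ hirr => hxU ?_) hx
  -- `x` is not scalar in a representation of top degree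
  haveI := CharApps.charKer_normal χ
  set Z := (Subgroup.center (G ⧸ CharApps.charKer χ)).comap
    (QuotientGroup.mk' (CharApps.charKer χ)) with hZ
  have hxZ : x ∈ Z := by
    obtain ⟨d, ρ, hρ, hρχ⟩ := χ.2
    let C := Subgroup.centralizer ({x} : Set G)
    haveI : Representation.IsIrreducible (ρ.comp C.subtype) := by
      haveI := Fintype.ofFinite C
      have h1 := Chars.inner_irr_self (G := C) ⟨_, hirr⟩
      refine (Chars.isIrreducible_iff_inner_self (ρ.comp C.subtype : Representation ℂ C _)).2 ?_
      have h2 : (fun y : C => (χ : G → ℂ) y) = Representation.character (ρ.comp C.subtype) :=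
        funext fun y => (congrFun hρχ y).symm
      change classInner (fun y : C => (χ : G → ℂ) y) (fun y : C => (χ : G → ℂ) y) = 1 at h1
      rw [h2] at h1
      exact h1
    have hxC : x ∈ C := Subgroup.mem_centralizer_singleton_iff.2 rfl
    obtain ⟨ω, hω⟩ := Chars.exists_scalar_of_mem_center
      (ρ.comp C.subtype : Representation ℂ C _) ⟨x, hxC⟩
      (Subgroup.mem_center_iff.2 fun g => Subtype.ext
        (Subgroup.mem_centralizer_singleton_iff.1 g.2))
    have hωx : ρ x = ω • LinearMap.id := hω
    rw [hZ, Subgroup.mem_comap, Subgroup.mem_center_iff]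
    intro q
    obtain ⟨g, rfl⟩ := QuotientGroup.mk'_surjective (CharApps.charKer χ) q
    rw [← map_mul, ← map_mul, QuotientGroup.mk'_apply, QuotientGroup.mk'_apply, QuotientGroup.eq,
      CharApps.mem_charKer, ← hρχ]
    refine (Chars.ker_iff ρ rfl _).2 ?_
    have e : ρ (g * x) = ρ (x * g) := by
      rw [map_mul, map_mul, hωx, ← Module.End.one_eq_id]
      simp
    rw [map_mul ρ (g * x)⁻¹ (x * g), ← e, ← map_mul, inv_mul_cancel, map_one]
  have hZn : Z.Normal := Subgroup.Normal.comap inferInstance _
  have hLZ : ¬ L ≤ Z := by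
    intro hle
    have hLker : L ≤ CharApps.charKer χ := by
      refine hL.trans (Subgroup.commutator_le.2 fun a ha b hb => ?_)
      rw [← QuotientGroup.eq_one_iff,
        show ((⁅a, b⁆ : G) : G ⧸ CharApps.charKer χ) =
          ⁅(a : G ⧸ CharApps.charKer χ), (b : G ⧸ CharApps.charKer χ)⁆ from
          map_commutatorElement (QuotientGroup.mk' _) a b]
      exact commutatorElement_eq_one_iff_mul_comm.2
        ((Subgroup.mem_center_iff.1 (hle hb)) (a : G ⧸ CharApps.charKer χ))
    obtain ⟨ψ, hψ⟩ := CharApps.exists_inflate (CharApps.charKer χ) χ le_rfl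
    have hab : ∀ a b : G ⧸ CharApps.charKer χ, a * b = b * a := by
      intro a b
      obtain ⟨a, rfl⟩ := QuotientGroup.mk_surjective a
      obtain ⟨b, rfl⟩ := QuotientGroup.mk_surjective b
      rw [← commutatorElement_eq_one_iff_mul_comm,
        show (⁅(a : G ⧸ CharApps.charKer χ), (b : G ⧸ CharApps.charKer χ)⁆) =
          ((⁅a, b⁆ : G) : G ⧸ CharApps.charKer χ) from
          (map_commutatorElement (QuotientGroup.mk' _) a b).symm, QuotientGroup.eq_one_iff]
      exact hLker (Subgroup.commutator_mem_commutator (Subgroup.mem_top a) (Subgroup.mem_top b))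
    have h1 := Chars.irr_abelian_degree hab ψ.2
    rw [← hψ, CharApps.inflate_charDegree] at hχ
    rw [CharApps.deg_eq, Nat.cast_eq_one] at h1
    omega
  haveI := hZn
  obtain ⟨J, hJ, hle⟩ := hbelow (L ⊓ Z) inferInstance
    (lt_of_le_of_ne inf_le_left fun he => hLZ (he ▸ inf_le_right))
  rw [hU, Finset.mem_biUnion]
  exact ⟨J, hJ, Finset.mem_filter.2 ⟨Finset.mem_univ _, hcm J hJ Z hZn hle hxZ⟩⟩

/-- Isaacs–Passman: an abelian subgroup of index at most `(n!)²`. -/
theorem exists_abelian_index_le (n : ℕ) : ∀ (G : Type u) [Group G] [Finite G], DegLE G n →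
    ∃ A : Subgroup G, (∀ x ∈ A, ∀ y ∈ A, x * y = y * x) ∧ A.index ≤ (Nat.factorial n) ^ 2 := by
  induction n using Nat.strong_induction_on with
  | _ n ih =>
    intro G _ _ h
    by_cases hab : DegLE G 1
    · refine ⟨⊤, fun x _ y _ => mul_comm_of_degLE_one hab x y, ?_⟩
      rw [Subgroup.index_top]
      exact Nat.one_le_pow _ _ (Nat.factorial_pos n)
    have hn : 2 ≤ n := by
      by_contra hlt
      exact hab (h.mono (by omega))
    have hstep : Step G n := by
      by_cases hp : commutator G ≤ ⁅commutator G, commutator G⁆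
      · refine step_of_perfect h hp fun hb => hab fun χ => ?_
        have hcomm : ∀ a b : G, a * b = b * a := fun a b =>
          commutatorElement_eq_one_iff_mul_comm.1 (Subgroup.mem_bot.1
            (hb ▸ Subgroup.commutator_mem_commutator (Subgroup.mem_top a) (Subgroup.mem_top b)))
        have h1 := Chars.irr_abelian_degree hcomm χ.2
        rw [CharApps.deg_eq, Nat.cast_eq_one] at h1
        omega
      · exact step_of_not_perfect hn h hp
    obtain ⟨H, m, hm, hH, hidx⟩ := hstep
    obtain ⟨A, hA, hAi⟩ := ih m hm H hH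
    refine ⟨A.map H.subtype, ?_, ?_⟩
    · rintro _ ⟨x, hx, rfl⟩ _ ⟨y, hy, rfl⟩
      rw [← map_mul, ← map_mul, hA x hx y hy]
    · rw [Subgroup.index_map_subtype, mul_comm]
      exact le_trans (Nat.mul_le_mul_left _ hAi) hidx

end CfsgLib.CharsMore.IsaacsPassman
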