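import Cfsg.Agent.Lib.CharsMore.IsaacsPassman.Basic

/-!
# The reduction step when the derived group is not perfect
-/

set_option autoImplicit false
set_option linter.style.haveILetI false
set_option linter.unusedSectionVars false

namespace CfsgLib.CharsMore.IsaacsPassman

open Cfsg
open scoped ComplexConjugate commutatorElement

universe u

variable {G : Type u} [Group G] [Finite G]

/-- One step of the recursion. -/
def Step (G : Type u) [Group G] (n : ℕ) : Prop :=
  ∃ (H : Subgroup G) (m : ℕ), m < n ∧ DegLE H m ∧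
    H.index * (Nat.factorial m) ^ 2 ≤ (Nat.factorial n) ^ 2

theorem step_pred {n : ℕ} (hn : 1 ≤ n) (H : Subgroup G) (h : DegLE H (n - 1))
    (hidx : H.index ≤ n ^ 2) : Step G n := by
  refine ⟨H, n - 1, by omega, h, ?_⟩
  obtain ⟨m, rfl⟩ : ∃ m, n = m + 1 := ⟨n - 1, by omega⟩
  rw [Nat.factorial_succ, Nat.mul_pow, Nat.add_sub_cancel]
  exact Nat.mul_le_mul_right _ hidx

theorem step_half {n : ℕ} (hn : 2 ≤ n) (H : Subgroup G) (h : DegLE H (n / 2))
    (hidx : H.index * (Nat.factorial (n / 2)) ^ 2 ≤ (Nat.factorial n) ^ 2) : Step G n :=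
  ⟨H, n / 2, by omega, h, hidx⟩

theorem cube_mul_factorial_half {n : ℕ} (hn : 3 ≤ n) :
    n ^ 3 * (Nat.factorial (n / 2)) ^ 2 ≤ (Nat.factorial n) ^ 2 := by
  rcases Nat.lt_or_ge n 4 with h | h
  · obtain rfl : n = 3 := by omega
    decide
  obtain ⟨m, rfl⟩ : ∃ m, n = m + 2 := ⟨n - 2, by omega⟩
  have h1 : Nat.factorial ((m + 2) / 2) ≤ Nat.factorial m := Nat.factorial_le (by omega)
  rw [Nat.factorial_succ, Nat.factorial_succ]
  calc (m + 2) ^ 3 * (Nat.factorial ((m + 2) / 2)) ^ 2
      ≤ ((m + 2) * (m + 1)) ^ 2 * (Nat.factorial m) ^ 2 :=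
        Nat.mul_le_mul (by
          rw [Nat.mul_pow, pow_succ _ 2]
          exact Nat.mul_le_mul_left _ (by nlinarith)) (Nat.pow_le_pow_left h1 2)
    _ = _ := by ring

/-- An irreducible character vanishing off `Z` with constant absolute value on `Z`. -/
theorem inner_mul_vanishing [Fintype G] (Z : Subgroup G) (ψ : IrrCharacter G)
    (hψ : IsIrrCharacter Z (fun x : Z => (ψ : G → ℂ) x)) (η : IrrCharacter G)
    (h0 : ∀ g, g ∉ Z → (η : G → ℂ) g = 0)
    (h1 : ∀ g ∈ Z, (η : G → ℂ) g * conj ((η : G → ℂ) g) = (η : G → ℂ) 1 ^ 2) :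
    IsIrrCharacter G ((η : G → ℂ) * (ψ : G → ℂ)) := by
  classical
  refine Chars.isIrrCharacter_iff_inner_self.2
    ⟨Chars.isCharacter_mul (Chars.isCharacter_of_irr η.2) (Chars.isCharacter_of_irr ψ.2), ?_⟩
  have hη := Chars.inner_irr_self η
  have hψ' := Chars.inner_irr_self (G := Z) ⟨_, hψ⟩
  rw [Chars.inner_def] at hη hψ' ⊢
  simp only [Pi.mul_apply] at hη hψ' ⊢
  have key : ∀ F : G → ℂ, ∑ g : G, (η : G → ℂ) g * conj ((η : G → ℂ) g) * F g
      = (η : G → ℂ) 1 ^ 2 * ∑ z : Z, F z := by
    intro F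
    rw [Finset.mul_sum, ← Finset.sum_subtype (p := fun g => g ∈ Z)
      (Finset.univ.filter (fun g => g ∈ Z)) (by simp) (fun g => (η : G → ℂ) 1 ^ 2 * F g),
      Finset.sum_filter]
    refine Finset.sum_congr rfl fun g _ => ?_
    by_cases hg : g ∈ Z
    · rw [if_pos hg, h1 g hg]
    · rw [if_neg hg, h0 g hg, zero_mul, zero_mul]
  have k1 := key (fun _ => 1)
  simp only [mul_one, Finset.sum_const, Finset.card_univ, nsmul_eq_mul,
    ← Nat.card_eq_fintype_card] at k1
  rw [k1] at hη
  have hz : (Nat.card Z : ℂ) ≠ 0 := Nat.cast_ne_zero.2 Nat.card_pos.ne'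
  have hψ'' : ∑ z : Z, (ψ : G → ℂ) z * conj ((ψ : G → ℂ) z) = (Nat.card Z : ℂ) := by
    rw [inv_mul_eq_iff_eq_mul₀ hz, mul_one] at hψ'
    exact hψ'
  have k2 := key (fun g => (ψ : G → ℂ) g * conj ((ψ : G → ℂ) g))
  rw [hψ''] at k2
  rw [← hη, ← k2]
  congr 1
  refine Finset.sum_congr rfl fun g _ => ?_
  rw [map_mul]
  ring

/-- A character of degree two has norm different from three. -/
theorem norm_ne_three [Fintype G] {φ : G → ℂ} (hφ : IsCharacter G φ) (h2 : φ 1 = 2) :
    classInner φ φ ≠ 3 := by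
  classical
  obtain ⟨k, ρ, rfl⟩ := hφ
  obtain ⟨m, c, hc⟩ := Chars.exists_sum_irr ρ
  have hm : m ≤ 2 := by
    have h1 : ∑ i, ((charDegree (c i : G → ℂ) : ℕ) : ℂ) = ((2 : ℕ) : ℂ) := by
      simp only [← CharApps.deg_eq]
      rw [Nat.cast_ofNat, ← h2, hc, Finset.sum_apply]
    have h3 : ∑ i, charDegree (c i : G → ℂ) = 2 := by exact_mod_cast h1
    have h4 := Finset.sum_le_sum (s := Finset.univ) (f := fun _ : Fin m => 1)
      (g := fun i => charDegree (c i : G → ℂ)) (fun i _ => CharApps.deg_pos (c i))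
    simp only [Finset.sum_const, Finset.card_univ, Fintype.card_fin, smul_eq_mul, mul_one] at h4
    omega
  rw [hc, Chars.inner_sum_left]
  simp only [Chars.inner_sum_right, Chars.inner_irr]
  interval_cases m
  · simp
  · simp only [Fin.sum_univ_one, if_true]
    norm_num
  · simp only [Fin.sum_univ_two, if_true]
    by_cases h : c 0 = c 1
    · simp [h]; norm_num
    · simp [h, Ne.symm h]; norm_num

/-- An involutive permutation of a finite type with a unique fixed point. -/
theorem odd_card_of_involutive {α : Type*} [Finite α] (f : α → α) (hf : ∀ x, f (f x) = x) (a : α)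
    (ha : ∀ x, f x = x ↔ x = a) : Odd (Nat.card α) := by
  classical
  haveI := Fintype.ofFinite α
  have h := Equiv.Perm.card_fixedPoints_modEq (α := α) (f := (f : Function.End α)) (p := 2) (n := 1)
    (by funext x; exact hf x)
  have h1 : Fintype.card (Function.fixedPoints f) = 1 := by
    rw [Fintype.card_eq_one_iff]
    exact ⟨⟨a, (ha a).2 rfl⟩, fun x => Subtype.ext ((ha x).1 x.2)⟩
  rw [Nat.card_eq_fintype_card, Nat.odd_iff]
  have h2 : Fintype.card α % 2 = Fintype.card (Function.fixedPoints f) % 2 := h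
  omega

/-- The step for a group whose derived group is not perfect. -/
theorem step_of_not_perfect {n : ℕ} (hn : 2 ≤ n) (h : DegLE G n)
    (hG : ¬ commutator G ≤ ⁅commutator G, commutator G⁆) : Step G n := by
  classical
  haveI := Fintype.ofFinite G
  -- the minimal nonabelian metabelian quotient
  obtain ⟨K, ⟨hKn, hK1, hK2⟩, hKmax⟩ := Set.Finite.exists_maximal
    (s := {K : Subgroup G | K.Normal ∧ ¬ commutator G ≤ K ∧ ⁅commutator G, commutator G⁆ ≤ K})
    (Set.toFinite _) ⟨⁅commutator G, commutator G⁆, inferInstance, hG, le_rfl⟩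
  haveI := hKn
  haveI := Fintype.ofFinite (G ⧸ K)
  set π := QuotientGroup.mk' K with hπ
  have hπs : Function.Surjective π := QuotientGroup.mk'_surjective K
  set D : Subgroup (G ⧸ K) := (commutator G).map π with hDdef
  haveI hDn : D.Normal := Subgroup.Normal.map inferInstance π hπs
  have hDtop : ⁅(⊤ : Subgroup (G ⧸ K)), ⊤⁆ ≤ D := by
    rw [hDdef, commutator_def, Subgroup.map_commutator, Subgroup.map_top_of_surjective π hπs]
  have hD1 : D ≠ ⊥ := by
    rw [Ne, hDdef, Subgroup.map_eq_bot_iff, QuotientGroup.ker_mk']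
    exact hK1
  have hDab : ∀ a ∈ D, ∀ b ∈ D, a * b = b * a := by
    intro a ha b hb
    rw [← commutatorElement_eq_one_iff_mul_comm]
    have h1 : ⁅D, D⁆ = ⊥ := by
      rw [hDdef, ← Subgroup.map_commutator, Subgroup.map_eq_bot_iff, QuotientGroup.ker_mk']
      exact hK2
    exact Subgroup.mem_bot.1 (h1 ▸ Subgroup.commutator_mem_commutator ha hb)
  have hmin : ∀ X : Subgroup (G ⧸ K), X.Normal → X ≠ ⊥ → D ≤ X := by
    intro X hX hX1
    haveI := hX
    have hKX : K ≤ X.comap π := fun k hk => by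
      rw [Subgroup.mem_comap, hπ, QuotientGroup.mk'_apply, (QuotientGroup.eq_one_iff k).2 hk]
      exact X.one_mem
    by_contra hno
    refine hX1 ?_
    have h1 : ¬ commutator G ≤ X.comap π := fun hle => hno (Subgroup.map_le_iff_le_comap.2 hle)
    have h2 := hKmax ⟨inferInstance, h1, hK2.trans hKX⟩ hKX
    rw [eq_bot_iff]
    intro x hx
    obtain ⟨g, rfl⟩ := hπs x
    rw [Subgroup.mem_bot, hπ, QuotientGroup.mk'_apply, QuotientGroup.eq_one_iff]
    exact h2 (show g ∈ X.comap π from hx)
  -- the nonlinear character of the quotient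
  have hQ : DegLE (G ⧸ K) n := h.of_surjective π hπs
  obtain ⟨η, -, hη2⟩ := exists_nonlinear (G := G ⧸ K) ⊥ (by
    rw [le_bot_iff, ← ne_eq]
    intro hbot
    refine hD1 (le_bot_iff.1 ?_)
    rw [← hbot, hDdef, commutator_def, Subgroup.map_commutator, Subgroup.map_top_of_surjective π hπs,
      commutator_def])
  have hfaith : ∀ x, (η : G ⧸ K → ℂ) x = (η : G ⧸ K → ℂ) 1 → x = 1 := by
    intro x hx
    by_contra hx1
    haveI := CharApps.charKer_normal η
    have hD := hmin (CharApps.charKer η) inferInstance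
      (fun hb => hx1 (Subgroup.mem_bot.1 (hb ▸ (CharApps.mem_charKer.2 hx))))
    obtain ⟨ψ, hψ⟩ := CharApps.exists_inflate (CharApps.charKer η) η le_rfl
    have hab : ∀ a b : (G ⧸ K) ⧸ CharApps.charKer η, a * b = b * a := by
      intro a b
      obtain ⟨a, rfl⟩ := QuotientGroup.mk_surjective a
      obtain ⟨b, rfl⟩ := QuotientGroup.mk_surjective b
      rw [← commutatorElement_eq_one_iff_mul_comm]
      rw [show (⁅(a : (G ⧸ K) ⧸ CharApps.charKer η), (b : (G ⧸ K) ⧸ CharApps.charKer η)⁆) =
        ((⁅a, b⁆ : G ⧸ K) : (G ⧸ K) ⧸ CharApps.charKer η) from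
        (map_commutatorElement (QuotientGroup.mk' _) a b).symm, QuotientGroup.eq_one_iff]
      exact hD (hDtop (Subgroup.commutator_mem_commutator trivial trivial))
    have h1 := Chars.irr_abelian_degree hab ψ.2
    rw [← hψ, CharApps.inflate_charDegree] at hη2
    rw [CharApps.deg_eq, Nat.cast_eq_one] at h1
    omega
  have hKhalf : DegLE K (n / 2) := degLE_half h K hK1
  have hKred : ∀ χ : IrrCharacter G, charDegree (χ : G → ℂ) = n →
      ¬ IsIrrCharacter K (fun x : K => (χ : G → ℂ) x) := by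
    intro χ hχ hirr
    have := hKhalf ⟨_, hirr⟩
    have h2 : charDegree (fun x : K => (χ : G → ℂ) x) = charDegree (χ : G → ℂ) := rfl
    simp only [h2] at this
    omega
  by_cases hcen : D ≤ Subgroup.center (G ⧸ K)
  · -- central commutators
    set Z := Subgroup.center (G ⧸ K) with hZ
    obtain ⟨d, ρ, hρ, hρη⟩ := η.2
    haveI := hρ
    have h0 : ∀ g, g ∉ Z → (η : G ⧸ K → ℂ) g = 0 := by
      intro g hg
      obtain ⟨x, hx⟩ : ∃ x, x * g ≠ g * x := by
        by_contra hno
        push Not at hno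
        exact hg (Subgroup.mem_center_iff.2 hno)
      set c := x * g * x⁻¹ * g⁻¹ with hc
      have hc1 : c ≠ 1 := fun hc1 => hx (commutatorElement_eq_one_iff_mul_comm.1
        (by rw [commutatorElement_def]; exact hc1))
      have hcZ : c ∈ Subgroup.center (G ⧸ K) := hcen (hDtop (by
        rw [hc, ← commutatorElement_def]
        exact Subgroup.commutator_mem_commutator trivial trivial))
      obtain ⟨ω, hω⟩ := Chars.exists_scalar_of_mem_center ρ c hcZ
      have hω1 : ω ≠ 1 := by
        intro h1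
        refine hc1 (hfaith c ?_)
        rw [← hρη]
        simp [Representation.character, hω, h1]
      have h1 : (η : G ⧸ K → ℂ) (x * g * x⁻¹) = ω * (η : G ⧸ K → ℂ) g := by
        rw [show x * g * x⁻¹ = c * g by rw [hc]; group, ← hρη]
        simp [Representation.character, map_mul, hω, ← Module.End.one_eq_id]
      rw [Chars.isClassFunction_irr η g x] at h1
      have h2 : (ω - 1) * (η : G ⧸ K → ℂ) g = 0 := by rw [sub_mul, one_mul, ← h1, sub_self]
      exact (mul_eq_zero.1 h2).resolve_left (sub_ne_zero.2 hω1)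
    have h1 : ∀ g ∈ Z, (η : G ⧸ K → ℂ) g * conj ((η : G ⧸ K → ℂ) g) =
        (η : G ⧸ K → ℂ) 1 ^ 2 := by
      intro g hg
      obtain ⟨ω, hω⟩ := Chars.exists_scalar_of_mem_center ρ g hg
      have hn1 := (Chars.norm_character_eq_iff ρ g).2 ⟨ω, hω⟩
      rw [hρη] at hn1
      have h1' : (η : G ⧸ K → ℂ) 1 = (d : ℂ) := by rw [← hρη]; simp
      rw [Complex.mul_conj, Complex.normSq_eq_norm_sq, hn1, h1', Module.finrank_fin_fun]
      push_cast
      rfl
    refine step_pred (by omega) (Z.comap π) (degLE_pred h _ fun χ hχ hirr => ?_) ?_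
    · have hprod := inner_mul_vanishing (Z.comap π) χ hirr (CharApps.inflate K η)
        (fun g hg => by rw [CharApps.inflate_apply]; exact h0 _ hg)
        (fun g hg => by
          rw [CharApps.inflate_apply, CharApps.inflate_apply, QuotientGroup.mk_one]
          exact h1 _ hg)
      have h2 := h ⟨_, hprod⟩
      have h3 : charDegree (((CharApps.inflate K η : G → ℂ) * (χ : G → ℂ)) : G → ℂ)
          = charDegree (CharApps.inflate K η : G → ℂ) * n := by
        rw [charDegree, Pi.mul_apply, CharApps.deg_eq, CharApps.deg_eq, ← Nat.cast_mul,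
          Complex.natCast_re, Nat.floor_natCast, hχ]
      simp only [h3, CharApps.inflate_charDegree] at h2
      have := (Nat.mul_le_mul_right n hη2).trans h2
      omega
    · rw [Subgroup.index_comap_of_surjective Z hπs]
      have hs := Chars.inner_irr_self η
      rw [Chars.inner_def] at hs
      have k1 : ∑ g : G ⧸ K, (η : G ⧸ K → ℂ) g * conj ((η : G ⧸ K → ℂ) g)
          = ∑ g ∈ Finset.univ.filter (fun g => g ∈ Z), (η : G ⧸ K → ℂ) 1 ^ 2 := by
        rw [Finset.sum_filter]
        refine Finset.sum_congr rfl fun g _ => ?_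
        by_cases hg : g ∈ Z
        · rw [if_pos hg, h1 g hg]
        · rw [if_neg hg, h0 g hg, zero_mul]
      rw [k1, Finset.sum_const, nsmul_eq_mul, ← Fintype.card_subtype, ← Nat.card_eq_fintype_card,
        inv_mul_eq_iff_eq_mul₀ (Nat.cast_ne_zero.2 Nat.card_pos.ne'), mul_one, CharApps.deg_eq] at hs
      have hs' : Nat.card Z * charDegree (η : G ⧸ K → ℂ) ^ 2 = Nat.card (G ⧸ K) := by
        exact_mod_cast hs
      rw [← Subgroup.card_mul_index Z] at hs'
      rw [← Nat.eq_of_mul_eq_mul_left Nat.card_pos hs']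
      exact Nat.pow_le_pow_left (hQ η) 2
  · -- a Frobenius quotient
    set C := Subgroup.centralizer (D : Set (G ⧸ K)) with hC
    have hZ : Subgroup.center (G ⧸ K) = ⊥ := by
      by_contra hne
      exact hcen (hmin _ inferInstance hne)
    have hcomm : ∀ x y : G ⧸ K, x * y * x⁻¹ * y⁻¹ ∈ D := fun x y => hDtop (by
      rw [← commutatorElement_def]
      exact Subgroup.commutator_mem_commutator trivial trivial)
    have hfpf : ∀ g, g ∉ C → ∀ d ∈ D, d * g = g * d → d = 1 := by
      intro g hg d hd hdg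
      let W : Subgroup (G ⧸ K) := D ⊓ Subgroup.centralizer ({g} : Set (G ⧸ K))
      haveI hW : W.Normal := by
        refine ⟨fun w hw x => ⟨hDn.conj_mem w hw.1 x, ?_⟩⟩
        have hwg : g * w = w * g :=
          Subgroup.mem_centralizer_iff.1 hw.2 g rfl
        refine Subgroup.mem_centralizer_singleton_iff.2 ?_
        have he : x⁻¹ * g * x * g⁻¹ ∈ D := by
          have := hcomm x⁻¹ g
          rwa [inv_inv] at this
        have hwe := hDab w hw.1 _ he
        have hconj : w * (x⁻¹ * g * x) = (x⁻¹ * g * x) * w := by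
          calc w * (x⁻¹ * g * x) = (w * (x⁻¹ * g * x * g⁻¹)) * g := by group
            _ = (x⁻¹ * g * x * g⁻¹ * w) * g := by rw [hwe]
            _ = (x⁻¹ * g * x * g⁻¹) * (w * g) := by group
            _ = (x⁻¹ * g * x * g⁻¹) * (g * w) := by rw [hwg]
            _ = _ := by group
        calc x * w * x⁻¹ * g = x * (w * (x⁻¹ * g * x)) * x⁻¹ := by group
          _ = x * (x⁻¹ * g * x * w) * x⁻¹ := by rw [hconj]
          _ = _ := by group
      by_contra hd1
      have hne : W ≠ ⊥ := fun hb => hd1 (Subgroup.mem_bot.1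
        (hb ▸ (⟨hd, Subgroup.mem_centralizer_singleton_iff.2 hdg⟩ : d ∈ W)))
      refine hg (Subgroup.mem_centralizer_iff.2 fun e he => ?_)
      exact Subgroup.mem_centralizer_singleton_iff.1 (hmin W hW hne he).2
    have hsurj : ∀ g, g ∉ C → ∀ e ∈ D, ∃ d ∈ D, e = d * g * d⁻¹ * g⁻¹ := by
      intro g hg e he
      let f : D → D := fun d => ⟨(d : G ⧸ K) * g * (d : G ⧸ K)⁻¹ * g⁻¹, hcomm _ _⟩
      have hf : Function.Injective f := by
        intro a b hab
        have h1 : (a : G ⧸ K) * g * (a : G ⧸ K)⁻¹ = b * g * (b : G ⧸ K)⁻¹ :=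
          mul_right_cancel (congrArg Subtype.val hab)
        have h2 := hfpf g hg _ (D.mul_mem (D.inv_mem b.2) a.2) (by
          calc (b : G ⧸ K)⁻¹ * a * g
              = (b : G ⧸ K)⁻¹ * ((a : G ⧸ K) * g * (a : G ⧸ K)⁻¹) * a := by group
            _ = (b : G ⧸ K)⁻¹ * ((b : G ⧸ K) * g * (b : G ⧸ K)⁻¹) * a := by rw [h1]
            _ = _ := by group)
        exact Subtype.ext (inv_mul_eq_one.1 h2).symm
      obtain ⟨d, hd⟩ := (Finite.injective_iff_surjective.1 hf) ⟨e, he⟩
      exact ⟨d, d.2, (congrArg Subtype.val hd).symm⟩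
    obtain ⟨g₀, hg₀⟩ : ∃ g, g ∉ C := by
      by_contra hno
      push Not at hno
      refine hcen fun d hd => Subgroup.mem_center_iff.2 fun g => ?_
      exact (Subgroup.mem_centralizer_iff.1 (hno g) d hd).symm
    have hCD : C ≤ D := by
      intro c hc
      obtain ⟨d, hd, hcd⟩ := hsurj g₀ hg₀ _ (hcomm c g₀)
      have hc' : ∀ e ∈ D, e * (d⁻¹ * c) = (d⁻¹ * c) * e := by
        intro e he
        rw [← mul_assoc, hDab e he _ (D.inv_mem hd), mul_assoc,
          Subgroup.mem_centralizer_iff.1 hc e he, mul_assoc]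
      have hg : (d⁻¹ * c) * g₀ = g₀ * (d⁻¹ * c) := by
        have h1 : c * g₀ * c⁻¹ = d * g₀ * d⁻¹ := mul_right_cancel hcd
        calc (d⁻¹ * c) * g₀ = d⁻¹ * (c * g₀ * c⁻¹) * c := by group
          _ = d⁻¹ * (d * g₀ * d⁻¹) * c := by rw [h1]
          _ = _ := by group
      have hZc : d⁻¹ * c ∈ Subgroup.center (G ⧸ K) := by
        rw [Subgroup.mem_center_iff]
        intro x
        set z := d⁻¹ * c with hz
        have he : x * z * x⁻¹ * z⁻¹ ∈ D := hcomm x z
        have h1 : (x⁻¹ * g₀ * x) * z = z * (x⁻¹ * g₀ * x) := by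
          have hgg : x⁻¹ * g₀ * x * g₀⁻¹ ∈ D := by simpa using hcomm x⁻¹ g₀
          calc (x⁻¹ * g₀ * x) * z = (x⁻¹ * g₀ * x * g₀⁻¹) * (g₀ * z) := by group
            _ = (x⁻¹ * g₀ * x * g₀⁻¹) * (z * g₀) := by rw [hg]
            _ = ((x⁻¹ * g₀ * x * g₀⁻¹) * z) * g₀ := by group
            _ = (z * (x⁻¹ * g₀ * x * g₀⁻¹)) * g₀ := by rw [hc' _ hgg]
            _ = _ := by group
        have h2 : (x * z * x⁻¹) * g₀ = g₀ * (x * z * x⁻¹) := by
          calc (x * z * x⁻¹) * g₀ = x * (z * (x⁻¹ * g₀ * x)) * x⁻¹ := by group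
            _ = x * ((x⁻¹ * g₀ * x) * z) * x⁻¹ := by rw [h1]
            _ = _ := by group
        have h3 := hfpf g₀ hg₀ _ he (by
          calc x * z * x⁻¹ * z⁻¹ * g₀ = (x * z * x⁻¹) * (z⁻¹ * (g₀ * z) * z⁻¹) := by group
            _ = (x * z * x⁻¹) * (z⁻¹ * (z * g₀) * z⁻¹) := by rw [hg]
            _ = ((x * z * x⁻¹) * g₀) * z⁻¹ := by group
            _ = _ := by rw [h2, mul_assoc])
        rw [mul_inv_eq_one, mul_inv_eq_iff_eq_mul] at h3
        exact h3
      rw [hZ, Subgroup.mem_bot, inv_mul_eq_one] at hZc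
      exact hZc ▸ hd
    have hCeq : ∀ g, g ∉ D → g ∉ C := fun g hg h1 => hg (hCD h1)
    -- the nonlinear character vanishes off `D`
    have hsumD : ∀ x, ∑ e : D, (η : G ⧸ K → ℂ) ((e : G ⧸ K) * x) = 0 :=
      CharApps.sum_coset_eq_zero D η fun hle => hD1 (eq_bot_iff.2 fun x hx =>
        Subgroup.mem_bot.2 (hfaith x (hle hx)))
    -- the index of `D`
    have hq : D.index ≤ charDegree (η : G ⧸ K → ℂ) := by
      obtain ⟨θ, hθ⟩ := exists_below D η.2
      have hdeg := clifford_degree D η.2 θ.2 hθ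
      have hθ1 : (θ : D → ℂ) 1 = 1 :=
        Chars.irr_abelian_degree (fun a b : D => Subtype.ext (hDab a a.2 b b.2)) θ.2
      obtain ⟨lam, hlam⟩ := Chars.exists_hom_of_degree_one (Chars.isCharacter_of_irr θ.2) hθ1
      have hT : inertia D (θ : D → ℂ) ≤ D := by
        intro g hg
        by_contra hgD
        refine hθ ?_
        have hlam1 : ∀ e : D, (θ : D → ℂ) e = 1 := by
          intro e
          obtain ⟨d, hd, he⟩ := hsurj g (hCeq g hgD) e e.2
          have h1 := (mem_inertia D).1 hg ⟨d, hd⟩⁻¹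
          have h2 : e = ⟨d, hd⟩ * conjBy D g (⟨d, hd⟩⁻¹) := by
            ext
            simp only [he, Subgroup.coe_mul, coe_conjBy, InvMemClass.coe_inv]
            group
          rw [hlam] at h1 ⊢
          simp only [h2, map_mul, Units.val_mul] at h1 ⊢
          rw [h1, map_inv, Units.mul_inv]
        have h0 : ∑ e : D, (η : G ⧸ K → ℂ) (e : G ⧸ K) = 0 := by simpa using hsumD 1
        rw [Chars.inner_def]
        simp [hlam1, h0]
      have hTeq : inertia D (θ : D → ℂ) = D := le_antisymm hT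
        (le_inertia D (Chars.isClassFunction_irr θ))
      obtain ⟨m, hm⟩ := Chars.inner_irr_right_nat
        (Chars.isCharacter_restrict D (Chars.isCharacter_of_irr η.2)) θ
      rw [hTeq, hm, hθ1, mul_one, CharApps.deg_eq] at hdeg
      have hdeg' : charDegree (η : G ⧸ K → ℂ) = m * D.index := by exact_mod_cast hdeg
      rw [hdeg']
      refine Nat.le_mul_of_pos_left _ (Nat.pos_of_ne_zero fun h0 => hθ ?_)
      rw [hm, h0, Nat.cast_zero]
    have hqn : D.index ≤ n := hq.trans (hQ η)
    set N := D.comap π with hN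
    have hNidx : N.index = D.index := Subgroup.index_comap_of_surjective D hπs
    by_cases hgood : ∀ χ : IrrCharacter G, charDegree (χ : G → ℂ) = n →
        ¬ IsIrrCharacter N (fun x : N => (χ : G → ℂ) x)
    · refine step_pred (by omega) N (degLE_pred h N hgood) ?_
      rw [hNidx]
      exact hqn.trans (Nat.le_self_pow (by omega) n)
    push Not at hgood
    obtain ⟨χ, hχn, hχN⟩ := hgood
    have hψN := Chars.inner_irr_self (G := N) ⟨_, hχN⟩
    rw [Chars.inner_def] at hψN
    set F : G → ℂ := fun g => (χ : G → ℂ) g * conj ((χ : G → ℂ) g) with hF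
    -- a linear character of `D` fixing the restriction
    let πN : N →* D := (π.comp N.subtype).codRestrict D fun x => x.2
    have hKN : K ≤ N := fun k hk => by
      rw [hN, Subgroup.mem_comap, hπ, QuotientGroup.mk'_apply, (QuotientGroup.eq_one_iff k).2 hk]
      exact D.one_mem
    have hπN1 : ∀ x : N, πN x = 1 ↔ (x : G) ∈ K := fun x => by
      rw [← QuotientGroup.eq_one_iff (x : G), Subtype.ext_iff]
      rfl
    have hsplit : ∀ f : G → ℂ, ∑ x : N, (if πN x = 1 then f x else 0) = ∑ k : K, f k := by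
      intro f
      rw [← Finset.sum_filter, Finset.sum_subtype (p := fun x : N => (x : G) ∈ K) _
        (fun x => by simp [hπN1])]
      exact Fintype.sum_equiv (Subgroup.subgroupOfEquivOfLe hKN).toEquiv _ _ fun x => rfl
    obtain ⟨lam, hlam1, hlam⟩ : ∃ lam : IrrCharacter D, lam ≠ Chars.principal D ∧
        ∀ x : N, (χ : G → ℂ) x ≠ 0 → (lam : D → ℂ) (πN x) = 1 := by
      by_contra hno
      push Not at hno
      letI := Chars.irrFintype D
      refine hKred χ hχn (Chars.isIrrCharacter_iff_inner_self.2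
        ⟨Chars.isCharacter_restrict K (Chars.isCharacter_of_irr χ.2), ?_⟩)
      have hone : ∀ lam : IrrCharacter D, (lam : D → ℂ) 1 = 1 := fun lam =>
        Chars.irr_abelian_degree (fun a b : D => Subtype.ext (hDab a a.2 b b.2)) lam.2
      have key : ∀ lam : IrrCharacter D, ∑ x : N, (lam : D → ℂ) (πN x) * F x =
          if lam = Chars.principal D then (Nat.card N : ℂ) else 0 := by
        intro lam
        obtain ⟨l, hl⟩ := Chars.exists_hom_of_degree_one (Chars.isCharacter_of_irr lam.2) (hone lam)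
        have hirr := Chars.isIrrCharacter_linear_mul (l.comp πN) hχN
        have h1 := Chars.inner_irr_of_isIrr hirr hχN
        rw [Chars.inner_def, inv_mul_eq_iff_eq_mul₀ (Nat.cast_ne_zero.2 Nat.card_pos.ne')] at h1
        simp only [MonoidHom.coe_comp, Function.comp_apply, mul_ite, mul_one, mul_zero] at h1
        have h2 : ∑ x : N, (lam : D → ℂ) (πN x) * F x
            = ∑ x : N, (l (πN x) : ℂ) * (χ : G → ℂ) x * conj ((χ : G → ℂ) x) :=
          Finset.sum_congr rfl fun x _ => by rw [hl, hF, mul_assoc]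
        rw [h2, h1]
        by_cases hp : lam = Chars.principal D
        · rw [if_pos hp, if_pos (funext fun x => ?_)]
          have : (l (πN x) : ℂ) = (lam : D → ℂ) (πN x) := by rw [hl]
          rw [this, hp, Chars.principal_apply, one_mul]
        · rw [if_neg hp, if_neg fun heq => ?_]
          obtain ⟨x, hx0, hx1⟩ := hno lam hp
          refine hx1 ?_
          have h3 := congrFun heq x
          rw [hl]
          exact mul_right_cancel₀ hx0 (h3.trans (one_mul _).symm)
      have hreg : ∀ e : D, ∑ lam : IrrCharacter D, (lam : D → ℂ) e =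
          if e = 1 then (Nat.card D : ℂ) else 0 := fun e => by
        rw [← Chars.sum_degree_mul e]
        simp only [hone, one_mul]
      have htot : (Nat.card D : ℂ) * ∑ k : K, F k = (Nat.card N : ℂ) := by
        rw [← hsplit, Finset.mul_sum]
        calc ∑ x : N, (Nat.card D : ℂ) * (if πN x = 1 then F x else 0)
            = ∑ x : N, ∑ lam : IrrCharacter D, (lam : D → ℂ) (πN x) * F x :=
              Finset.sum_congr rfl fun x _ => by
                rw [← Finset.sum_mul, hreg]
                split <;> simp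
          _ = ∑ lam : IrrCharacter D, ∑ x : N, (lam : D → ℂ) (πN x) * F x := Finset.sum_comm
          _ = _ := by simp [key]
      have hcard : Nat.card N = Nat.card D * Nat.card K := by
        rw [← Subgroup.card_mul_index (K.subgroupOf N),
          Nat.card_congr (Subgroup.subgroupOfEquivOfLe hKN).toEquiv, mul_comm]
        congr 1
        have : (K.subgroupOf N) = πN.ker := by
          ext x
          rw [Subgroup.mem_subgroupOf, MonoidHom.mem_ker, hπN1]
        rw [this, Subgroup.index_ker, MonoidHom.range_eq_top.2 fun e => ?_, Subgroup.card_top]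
        obtain ⟨g, hg⟩ := hπs (e : G ⧸ K)
        exact ⟨⟨g, show π g ∈ D from hg ▸ e.2⟩, Subtype.ext hg⟩
      rw [hcard, Nat.cast_mul] at htot
      rw [Chars.inner_def]
      have hk := mul_left_cancel₀ (Nat.cast_ne_zero.2 Nat.card_pos.ne') htot
      rw [show ∑ k : K, (χ : G → ℂ) k * conj ((χ : G → ℂ) k) = ∑ k : K, F k from rfl, hk,
        inv_mul_cancel₀ (Nat.cast_ne_zero.2 Nat.card_pos.ne')]
    -- the restriction vanishes off `K`
    have hvan : ∀ x : N, (x : G) ∉ K → (χ : G → ℂ) x = 0 := by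
      intro x hx
      by_contra hne
      set S : Set (G ⧸ K) := {e | ∃ y : N, (χ : G → ℂ) y ≠ 0 ∧ π y = e} with hS
      let W := Subgroup.normalClosure S
      have hSconj : Group.conjugatesOfSet S ⊆ S := by
        intro e he
        obtain ⟨s, ⟨y, hy, rfl⟩, hse⟩ := Group.mem_conjugatesOfSet_iff.1 he
        obtain ⟨c, rfl⟩ := isConj_iff.1 hse
        obtain ⟨g, rfl⟩ := hπs c
        refine ⟨⟨g * y * g⁻¹, ?_⟩, ?_, by simp⟩
        · have hy' : π y ∈ D := y.2
          show π (g * y * g⁻¹) ∈ D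
          rw [map_mul, map_mul, map_inv]
          exact hDn.conj_mem _ hy' _
        · show (χ : G → ℂ) (g * y * g⁻¹) ≠ 0
          rw [Chars.isClassFunction_irr χ]
          exact hy
      obtain ⟨l, hl⟩ := Chars.exists_hom_of_degree_one (Chars.isCharacter_of_irr lam.2)
        (Chars.irr_abelian_degree (fun a b : D => Subtype.ext (hDab a a.2 b b.2)) lam.2)
      have hW : ∀ e ∈ W, ∃ he : e ∈ D, l ⟨e, he⟩ = 1 := by
        intro e he
        have h1 : Subgroup.normalClosure S ≤ (l.ker).map D.subtype := by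
          refine (Subgroup.closure_le _).2 (hSconj.trans ?_)
          rintro _ ⟨y, hy, rfl⟩
          refine ⟨πN y, ?_, rfl⟩
          rw [SetLike.mem_coe, MonoidHom.mem_ker]
          have := hlam y hy
          rw [hl] at this
          exact Units.ext this
        obtain ⟨e', he', rfl⟩ := h1 he
        exact ⟨e'.2, he'⟩
      have hWbot : W = ⊥ := by
        by_contra hW1
        refine hlam1 (Subtype.ext (funext fun e => ?_))
        obtain ⟨he, h1⟩ := hW e (hmin W inferInstance hW1 e.2)
        rw [hl, Chars.principal_apply]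
        simp [h1]
      have hxW : π x ∈ W := Subgroup.subset_normalClosure ⟨x, hne, rfl⟩
      rw [hWbot, Subgroup.mem_bot] at hxW
      exact hx ((QuotientGroup.eq_one_iff _).1 hxW)
    have hsumK : ∑ k : K, F k = (Nat.card N : ℂ) := by
      rw [inv_mul_eq_iff_eq_mul₀ (Nat.cast_ne_zero.2 Nat.card_pos.ne'), mul_one] at hψN
      rw [← hsplit, ← hψN]
      refine Finset.sum_congr rfl fun x _ => ?_
      by_cases hx : (x : G) ∈ K
      · rw [if_pos ((hπN1 x).2 hx)]
      · rw [if_neg fun h1 => hx ((hπN1 x).1 h1), hvan x hx, zero_mul]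
    have hNK : Nat.card N = Nat.card D * Nat.card K := by
      have h1 := Subgroup.card_mul_index N
      have h2 := Subgroup.card_mul_index K
      rw [hNidx] at h1
      have h3 : Nat.card D * D.index = K.index := Subgroup.card_mul_index D
      have h4 : Nat.card N * D.index = (Nat.card D * Nat.card K) * D.index := by
        rw [h1, mul_right_comm, h3, mul_comm, h2]
      exact Nat.eq_of_mul_eq_mul_right (Nat.pos_of_ne_zero Subgroup.index_ne_zero_of_finite) h4
    have hKidx : K.index = Nat.card D * D.index := (Subgroup.card_mul_index D).symm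
    have hDn2 : Nat.card D ≤ n ^ 2 := by
      have hb : ∀ k : K, (F k).re ≤ ((n ^ 2 : ℕ) : ℝ) := fun k => by
        have hb1 := Chars.char_norm_le (Chars.isCharacter_of_irr χ.2) (k : G)
        rw [CharApps.deg_eq, Complex.natCast_re, hχn] at hb1
        rw [hF]
        simp only [Complex.mul_conj, Complex.ofReal_re, Complex.normSq_eq_norm_sq]
        push_cast
        exact pow_le_pow_left₀ (norm_nonneg _) hb1 2
      have h1 := congrArg Complex.re hsumK
      rw [Complex.re_sum, Complex.natCast_re] at h1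
      have h2 := (Finset.sum_le_sum (s := Finset.univ) fun k _ => hb k)
      rw [h1, Finset.sum_const, Finset.card_univ, ← Nat.card_eq_fintype_card, nsmul_eq_mul,
        hNK] at h2
      have h3 : Nat.card D * Nat.card K ≤ Nat.card K * n ^ 2 := by exact_mod_cast h2
      rw [mul_comm] at h3
      exact Nat.le_of_mul_le_mul_left h3 Nat.card_pos
    rcases Nat.lt_or_ge n 3 with hn3 | hn3
    · exfalso
      obtain rfl : n = 2 := by omega
      have hDidx : D.index = 2 := by
        have h1 : D.index ≠ 1 := by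
          rw [Ne, Subgroup.index_eq_one]
          exact fun ht => hg₀ (Subgroup.mem_centralizer_iff.2 fun d hd =>
            hDab d hd g₀ (ht ▸ Subgroup.mem_top g₀))
        have h2 : D.index ≠ 0 := Subgroup.index_ne_zero_of_finite
        omega
      have hg₀D : g₀ ∉ D := fun h1 => hg₀ (Subgroup.mem_centralizer_iff.2 fun d hd =>
        hDab d hd g₀ h1)
      have hsq : g₀ * g₀ ∈ D := Subgroup.mul_self_mem_of_index_two hDidx g₀
      have hodd : Odd (Nat.card D) := by
        refine odd_card_of_involutive (fun d : D => ⟨g₀ * d * g₀⁻¹, hDn.conj_mem _ d.2 _⟩)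
          (fun d => Subtype.ext ?_) 1 (fun d => ⟨fun hd => ?_, fun hd => ?_⟩)
        · show g₀ * (g₀ * d * g₀⁻¹) * g₀⁻¹ = d
          calc g₀ * (g₀ * d * g₀⁻¹) * g₀⁻¹ = (g₀ * g₀) * d * (g₀ * g₀)⁻¹ := by group
            _ = d * (g₀ * g₀) * (g₀ * g₀)⁻¹ := by rw [hDab _ hsq _ d.2]
            _ = _ := by group
        · refine Subtype.ext (hfpf g₀ hg₀ d d.2 ?_)
          have h1 : g₀ * (d : G ⧸ K) * g₀⁻¹ = d := congrArg Subtype.val hd
          rw [mul_inv_eq_iff_eq_mul] at h1
          exact h1.symm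
        · subst hd
          ext
          simp
      have hD3 : Nat.card D = 3 := by
        have h1 : Nat.card D ≠ 1 := fun h1 => hD1 (Subgroup.card_eq_one.1 h1)
        obtain ⟨k, hk⟩ := hodd
        have h4 : Nat.card D ≤ 4 := hDn2
        omega
      refine norm_ne_three (G := K)
        (Chars.isCharacter_restrict K (Chars.isCharacter_of_irr χ.2)) ?_ ?_
      · rw [OneMemClass.coe_one, CharApps.deg_eq, hχn]; norm_num
      · rw [Chars.inner_def, show ∑ k : K, (χ : G → ℂ) k * conj ((χ : G → ℂ) k) = ∑ k : K, F k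
          from rfl, hsumK, hNK, hD3, Nat.cast_mul,
          mul_comm ((3 : ℕ) : ℂ), inv_mul_cancel_left₀ (Nat.cast_ne_zero.2 Nat.card_pos.ne')]
        norm_num
    · refine step_half hn K hKhalf ?_
      refine le_trans (Nat.mul_le_mul_right _ ?_) (cube_mul_factorial_half hn3)
      rw [hKidx, pow_succ]
      exact Nat.mul_le_mul hDn2 hqn

end CfsgLib.CharsMore.IsaacsPassman
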